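import Groth.Prelude.Def_Frob
import Mathlib.AlgebraicGeometry.Properties

/-!
Elementary lemmas on absolute and relative Frobenius.
-/

set_option autoImplicit false
set_option linter.style.haveILetI false
set_option backward.isDefEq.respectTransparency false
set_option backward.isDefEq.respectTransparency.types false

universe u

open CategoryTheory CategoryTheory.Limits AlgebraicGeometry FrobSch Opposite

namespace Groth.Agent.FrobEl

variable (p : ℕ) [Fact p.Prime]

lemma pow_injective {R : Type u} [CommRing R] [_root_.IsReduced R] (h : (p : R) = 0) {a b : R}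
    (hab : a ^ p = b ^ p) : a = b := by
  have h1 : powHom p R h (a - b) = 0 := by rw [map_sub, powHom_apply, powHom_apply, hab, sub_self]
  exact sub_eq_zero.mp (IsReduced.eq_zero _ ⟨p, h1⟩)

theorem eq_of_frob_comp {Y Z : Scheme.{u}} [IsCharP Y p] [AlgebraicGeometry.IsReduced Y] {g₁ g₂ : Y ⟶ Z}
    (h : frob Y p ≫ g₁ = frob Y p ≫ g₂) : g₁ = g₂ := by
  have hb : g₁.base = g₂.base := by
    have := congrArg (fun φ => φ.base) h
    simpa only [Scheme.Hom.comp_base, frob_base, Category.id_comp] using this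
  refine Scheme.Hom.ext hb fun U => ?_
  have hU : g₂ ⁻¹ᵁ U = g₁ ⁻¹ᵁ U := by ext y; simp [hb]
  have h1 := Scheme.Hom.congr_app h.symm U
  rw [Scheme.Hom.comp_app, Scheme.Hom.comp_app, Category.assoc] at h1
  ext s
  have h2 := congrArg (fun φ => φ.hom s) h1
  change g₂.app U s ^ p = Y.presheaf.map _ (g₁.app U s ^ p) at h2
  rw [map_pow] at h2
  refine (pow_injective p (natCast_eq_zero_app Y p _) ?_).symm
  exact h2

variable {X T S : Scheme.{u}} [IsCharP S p]

theorem isIso_relFrob_iff [IsCharP X p] (f : X ⟶ S) :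
    IsIso (relFrob f p) ↔ IsPullback (frob X p) f f (frob S p) := by
  constructor
  · intro h
    exact IsPullback.of_iso_pullback ⟨frob_comp p f⟩ (asIso (relFrob f p)) (relFrob_fst f p) (relFrob_snd f p)
  · intro h
    have e : relFrob f p = h.isoPullback.hom := pullback.hom_ext
      ((relFrob_fst f p).trans h.isoPullback_hom_fst.symm) ((relFrob_snd f p).trans h.isoPullback_hom_snd.symm)
    rw [e]
    infer_instance

theorem isIso_relFrob_comp [IsCharP T p] (π : X ⟶ T) (f : T ⟶ S)
    (hπ : IsIso (relFrob π p)) (hf : IsIso (relFrob f p)) : IsIso (relFrob (π ≫ f) p) := by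
  haveI := IsCharP.of_hom π p
  exact (isIso_relFrob_iff p _).2 (((isIso_relFrob_iff p π).1 hπ).paste_vert ((isIso_relFrob_iff p f).1 hf))

theorem isIso_relFrob_baseChange [IsCharP T p] {Y : Scheme.{u}} (r : Y ⟶ S) (f : T ⟶ S)
    (hr : IsIso (relFrob r p)) : IsIso (relFrob (pullback.snd r f) p) := by
  haveI := IsCharP.of_hom r p
  haveI := IsCharP.of_hom (pullback.snd r f) p
  refine (isIso_relFrob_iff p _).2 ?_
  have h0 : IsPullback (pullback.fst r f) (pullback.snd r f) r f := IsPullback.of_hasPullback r f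
  have h1 := (isIso_relFrob_iff p r).1 hr
  have h2 : IsPullback (pullback.fst r f ≫ frob Y p) (pullback.snd r f) r (f ≫ frob S p) := h0.paste_horiz h1
  rw [← frob_comp p (pullback.fst r f), ← frob_comp p f] at h2
  exact IsPullback.of_right h2 (frob_comp p (pullback.snd r f)) h0

theorem coperfection_comp {X X' : Scheme.{u}} [IsCharP T p] (f : T ⟶ S) (hf : IsIso (relFrob f p))
    (g : X ⟶ T) (π : X' ⟶ T) (hπ : IsIso (relFrob π p)) (c : X ⟶ X') (hc : c ≫ π = g)
    (huniv : ∀ (Y : Scheme.{u}) (q : Y ⟶ T), IsIso (relFrob q p) → ∀ k : X ⟶ Y, k ≫ q = g →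
      ∃! h : X' ⟶ Y, h ≫ q = π ∧ c ≫ h = k)
    (Y : Scheme.{u}) (r : Y ⟶ S) (hr : IsIso (relFrob r p)) (k : X ⟶ Y) (hk : k ≫ r = g ≫ f) :
    ∃! h : X' ⟶ Y, h ≫ r = π ≫ f ∧ c ≫ h = k := by
  obtain ⟨h, ⟨h1, h2⟩, hu⟩ := huniv (pullback r f) (pullback.snd r f) (isIso_relFrob_baseChange p r f hr)
    (pullback.lift k g hk) (pullback.lift_snd _ _ _)
  refine ⟨h ≫ pullback.fst r f, ⟨?_, ?_⟩, ?_⟩
  · rw [Category.assoc, pullback.condition, ← Category.assoc, h1]
  · rw [← Category.assoc, h2, pullback.lift_fst]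
  · rintro m ⟨hm1, hm2⟩
    have := hu (pullback.lift m π hm1) ⟨pullback.lift_snd _ _ _, pullback.hom_ext
      (by rw [Category.assoc, pullback.lift_fst, hm2, pullback.lift_fst])
      (by rw [Category.assoc, pullback.lift_snd, hc, pullback.lift_snd])⟩
    rw [← this, pullback.lift_fst]

end Groth.Agent.FrobEl
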