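import Groth.Prelude.Def_Coh
import Mathlib.Algebra.Homology.DerivedCategory.Ext.ExactSequences
import Mathlib.AlgebraicGeometry.Properties
import Groth.Agent.FrobEl.Basic

/-!
An endomorphism of the sheaf of sections with vanishing cohomology of its cokernel.
-/

set_option autoImplicit false
set_option linter.style.haveILetI false
set_option backward.isDefEq.respectTransparency false
set_option backward.isDefEq.respectTransparency.types false

universe u

open CategoryTheory CategoryTheory.Limits AlgebraicGeometry Opposite Abelian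

namespace Groth.Agent.FrobEl

theorem bijective_map_of_subsingleton_cokernel {C : Type u} [SmallCategory C] {J : GrothendieckTopology C}
    {F G : Sheaf J AddCommGrpCat.{u}} (φ : F ⟶ G) [Mono φ]
    (hB : ∀ i : ℕ, Subsingleton (Sheaf.H (cokernel φ) i)) (i : ℕ) :
    Function.Bijective (Sheaf.H.map φ i) := by
  let S := ShortComplex.mk φ (cokernel.π φ) (cokernel.condition φ)
  have hS : S.ShortExact := { exact := ShortComplex.exact_of_g_is_cokernel _ (cokernelIsCokernel φ) }
  let Z := (constantSheaf J AddCommGrpCat.{u}).obj (AddCommGrpCat.of (ULift.{u, 0} ℤ))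
  refine ⟨(injective_iff_map_eq_zero _).2 fun x hx => ?_, fun y => ?_⟩
  · cases i with
    | zero =>
      obtain ⟨f, rfl⟩ := (Ext.homEquiv₀ (X := Z) (Y := F)).symm.surjective x
      have h1 : Ext.mk₀ (f ≫ φ) = (0 : Ext Z G 0) := by
        rw [← Ext.mk₀_comp_mk₀]
        exact hx
      have h2 : f ≫ φ = 0 ≫ φ := by
        rw [zero_comp]
        exact (Ext.homEquiv₀ (X := Z) (Y := G)).symm.injective (h1.trans (Ext.mk₀_zero Z G).symm)
      rw [(cancel_mono φ).1 h2]
      exact Ext.mk₀_zero Z F
    | succ j =>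
      obtain ⟨x₃, hx₃⟩ := Ext.covariant_sequence_exact₁ Z hS x hx (n₀ := j) rfl
      haveI : Subsingleton (Ext Z S.X₃ j) := hB j
      rw [Subsingleton.elim x₃ 0, Ext.zero_comp] at hx₃
      exact hx₃.symm
  · haveI : Subsingleton (Ext Z S.X₃ i) := hB i
    obtain ⟨x, hx⟩ := Ext.covariant_sequence_exact₂ Z hS (show Ext Z S.X₂ i from y) (Subsingleton.elim _ _)
    exact ⟨x, hx⟩

theorem mono_of_pow (p : ℕ) [Fact p.Prime] (X : Scheme.{u}) [AlgebraicGeometry.IsReduced X]
    (hp : (p : Γ(X, ⊤)) = 0) (φ : Coh.toAb (Coh.structureModule X) ⟶ Coh.toAb (Coh.structureModule X))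
    (hφ : ∀ (U : X.Opens) (t : Γ(X, U)), φ.hom.app (op U) t = t ^ p) : Mono φ := by
  haveI : FrobSch.IsCharP X p := ⟨hp⟩
  haveI : ∀ U, Mono (φ.hom.app U) := fun U => (AddCommGrpCat.mono_iff_injective _).2 fun a b hab => by
    let a' : Γ(X, U.unop) := a
    let b' : Γ(X, U.unop) := b
    have h : a' ^ p = b' ^ p := (hφ U.unop a').symm.trans (hab.trans (hφ U.unop b'))
    exact pow_injective p (FrobSch.natCast_eq_zero_app X p U.unop) h
  haveI : Mono φ.hom := NatTrans.mono_of_mono_app _
  exact (sheafToPresheaf _ _).mono_of_mono_map (inferInstanceAs (Mono φ.hom))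

end Groth.Agent.FrobEl
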