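import Groth.Agent.FrobEl.Basic
import Groth.Prelude.Def_W4c3convisocdirimgFrobIter
import Mathlib.AlgebraicGeometry.Morphisms.ClosedImmersion

/-!
Frobenius kernels: the absolute Frobenius maps the `n`-th kernel into the `(n+1)`-st.
-/

set_option autoImplicit false
set_option linter.style.haveILetI false
set_option backward.isDefEq.respectTransparency false
set_option backward.isDefEq.respectTransparency.types false

universe u

open CategoryTheory CategoryTheory.Limits AlgebraicGeometry FrobSch Opposite

namespace Groth.Agent.FrobEl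

variable {T : Scheme.{u}} (p : ℕ) [Fact p.Prime] [IsCharP T p]

instance quasiCompact_frob : QuasiCompact (frob T p) :=
  ⟨fun U _ hU => by
    have h : ⇑(frob T p) ⁻¹' U = U := by ext t; simp
    rw [h]; exact hU⟩

instance quasiCompact_frobIter : ∀ n, QuasiCompact (frobIter T p n)
  | 0 => inferInstanceAs (QuasiCompact (𝟙 T))
  | n + 1 => by
    haveI := quasiCompact_frobIter n
    rw [frobIter_succ]
    infer_instance

/-- Frobenius takes the `n`-th kernel into the `(n+1)`-st -/
theorem exists_kernel_map (n : ℕ) : ∃ u : (frobIter T p n).ker.subscheme ⟶ (frobIter T p (n + 1)).ker.subscheme,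
    u ≫ (frobIter T p (n + 1)).ker.subschemeι = (frobIter T p n).ker.subschemeι ≫ frob T p := by
  refine ⟨IsClosedImmersion.lift _ ((frobIter T p n).ker.subschemeι ≫ frob T p) ?_,
    IsClosedImmersion.lift_fac _ _ _⟩
  intro U
  intro s hs
  rw [Scheme.IdealSheafData.ker_subschemeι, Scheme.Hom.ker_apply, RingHom.mem_ker,
    Scheme.Hom.congr_app (frobIter_succ T p n) U.1, Scheme.Hom.comp_app] at hs
  rw [Scheme.Hom.ker_apply, RingHom.mem_ker, Scheme.Hom.comp_app]
  change (frobIter T p n).ker.subschemeι.app _ (s ^ p) = 0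
  have hmem : (s ^ p : Γ(T, U)) ∈ (frobIter T p n).ker.subschemeι.ker.ideal U := by
    rw [Scheme.IdealSheafData.ker_subschemeι, Scheme.Hom.ker_apply, RingHom.mem_ker, map_pow]
    have h2 : T.presheaf.map (eqToHom (congrArg (· ⁻¹ᵁ (U : T.Opens)) (frobIter_succ T p n))).op
        ((frobIter T p n).app U s ^ p) = 0 := hs
    exact (map_eq_zero_iff _ (ConcreteCategory.bijective_of_isIso (T.presheaf.map _)).1).1 h2
  rw [Scheme.Hom.ker_apply] at hmem
  exact hmem

theorem exists_twist_lift (k : Type u) [Field k] [CharP k p] (n : ℕ) {X : Scheme.{u}}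
    (t : T ⟶ Spec (CommRingCat.of k)) (x : X ⟶ Spec (CommRingCat.of k))
    (i : T.nilradical.subscheme ⟶ (frobIter T p (n + 1)).ker.subscheme)
    (hi : i ≫ (frobIter T p (n + 1)).ker.subschemeι = T.nilradical.subschemeι)
    (j : T.nilradical.subscheme ⟶ (frobIter T p n).ker.subscheme)
    (hj : j ≫ (frobIter T p n).ker.subschemeι = T.nilradical.subschemeι)
    (w : (frobIter T p (n + 1)).ker.subscheme ⟶ X)
    (hw : w ≫ x = (frobIter T p (n + 1)).ker.subschemeι ≫ t) :
    ∃ v : (frobIter T p n).ker.subscheme ⟶ frobTwist x p,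
      v ≫ pullback.snd x (frob (Spec (CommRingCat.of k)) p) = (frobIter T p n).ker.subschemeι ≫ t ∧
        j ≫ v = i ≫ w ≫ relFrob x p := by
  obtain ⟨u, hu⟩ := exists_kernel_map (T := T) p n
  have hcond : (u ≫ w) ≫ x = ((frobIter T p n).ker.subschemeι ≫ t) ≫ frob (Spec (CommRingCat.of k)) p := by
    rw [Category.assoc, hw, reassoc_of% hu, frob_comp p t, Category.assoc]
  refine ⟨pullback.lift (u ≫ w) ((frobIter T p n).ker.subschemeι ≫ t) hcond, pullback.lift_snd _ _ _, ?_⟩
  haveI := IsCharP.of_hom x p
  haveI := IsCharP.of_hom T.nilradical.subschemeι p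
  refine pullback.hom_ext ?_ ?_
  · rw [Category.assoc, pullback.lift_fst, Category.assoc, Category.assoc, relFrob_fst,
      ← Category.assoc i w, ← frob_comp p (i ≫ w)]
    have : j ≫ u = frob T.nilradical.subscheme p ≫ i := by
      rw [← cancel_mono (frobIter T p (n + 1)).ker.subschemeι, Category.assoc, hu, reassoc_of% hj,
        Category.assoc, hi, frob_comp p T.nilradical.subschemeι]
    rw [reassoc_of% this]
  · rw [Category.assoc, pullback.lift_snd, Category.assoc, Category.assoc, relFrob_snd, hw,
      reassoc_of% hj, reassoc_of% hi]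

end Groth.Agent.FrobEl
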